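import Groth.Agent.StabLattice.Poly
import Mathlib.Order.RelSeries
import Mathlib.Order.ModularLattice

/-!
# Harder–Narasimhan and Jordan–Hölder theory for a modular valuation on a lattice

`Val`, `exists_isMax`, `exists_hn`, `hn_unique`, `exists_jh`, `hn_min_slope`.
-/

open Polynomial StabCat

namespace Groth.Agent.StabLattice

/-- A modular, monotone, polynomial valued valuation with integral multiplicities. -/
structure Val (L : Type*) [Lattice L] (d : ℕ) where
  /-- the value -/
  v : L → ℚ[X]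
  mod : ∀ a b, v (a ⊓ b) + v (a ⊔ b) = v a + v b
  nn : ∀ {a b : L}, a ≤ b → NN (v b - v a)
  nat : ∀ {a b : L}, a ≤ b → ∃ n : ℕ, alpha d (v b - v a) = n

/-- Prepend an element to a strictly increasing chain. -/
def consS {L : Type*} [Preorder L] (a : L) (s : LTSeries L) (h : a < s.head) : LTSeries L :=
  ⟨s.length + 1, Fin.cons a s.toFun, fun i => by
    change Fin.cons (α := fun _ => L) a s.toFun i.castSucc < Fin.cons (α := fun _ => L) a s.toFun i.succ
    refine Fin.cases ?_ (fun k => ?_) i
    · rw [Fin.castSucc_zero, Fin.cons_zero, Fin.cons_succ]; exact h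
    · rw [← Fin.succ_castSucc, Fin.cons_succ, Fin.cons_succ]; exact s.step k⟩

@[simp] theorem consS_zero {L : Type*} [Preorder L] (a : L) (s : LTSeries L) (h : a < s.head) :
    (consS a s h) 0 = a := rfl

theorem consS_succ {L : Type*} [Preorder L] (a : L) (s : LTSeries L) (h : a < s.head) (k : Fin (s.length + 1)) :
    (consS a s h) k.succ = s k := Fin.cons_succ (α := fun _ => L) a s.toFun k

theorem consS_last {L : Type*} [Preorder L] (a : L) (s : LTSeries L) (h : a < s.head) :
    (consS a s h).last = s.last := by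
  change Fin.cons (α := fun _ => L) a s.toFun (Fin.last (s.length + 1)) = s.toFun (Fin.last s.length)
  rw [← Fin.succ_last, Fin.cons_succ]

theorem consS_forall {L : Type*} [Preorder L] (a : L) (s : LTSeries L) (h : a < s.head) (P : L → L → Prop)
    (h₀ : P a s.head) (hs : ∀ k : Fin s.length, P (s k.castSucc) (s k.succ)) :
    ∀ i : Fin (consS a s h).length, P ((consS a s h) i.castSucc) ((consS a s h) i.succ) := by
  intro i
  change Fin (s.length + 1) at i
  change P (Fin.cons (α := fun _ => L) a s.toFun i.castSucc) (Fin.cons (α := fun _ => L) a s.toFun i.succ)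
  refine Fin.cases ?_ (fun k => ?_) i
  · rw [Fin.castSucc_zero, Fin.cons_zero, Fin.cons_succ]; exact h₀
  · rw [← Fin.succ_castSucc, Fin.cons_succ, Fin.cons_succ]; exact hs k

theorem consS_forall₂ {L : Type*} [Preorder L] (a : L) (s : LTSeries L) (h : a < s.head)
    (P : L → L → L → L → Prop)
    (h₀ : ∀ hl : 0 < s.length, P a s.head s.head (s (Fin.succ ⟨0, hl⟩)))
    (hs : ∀ k l : Fin s.length, k.val + 1 = l.val → P (s k.castSucc) (s k.succ) (s l.castSucc) (s l.succ)) :
    ∀ i j : Fin (consS a s h).length, i.val + 1 = j.val →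
      P ((consS a s h) i.castSucc) ((consS a s h) i.succ) ((consS a s h) j.castSucc) ((consS a s h) j.succ) := by
  intro i j
  change Fin (s.length + 1) at i j
  change i.val + 1 = j.val →
    P (Fin.cons (α := fun _ => L) a s.toFun i.castSucc) (Fin.cons (α := fun _ => L) a s.toFun i.succ)
      (Fin.cons (α := fun _ => L) a s.toFun j.castSucc) (Fin.cons (α := fun _ => L) a s.toFun j.succ)
  refine Fin.cases ?_ (fun l => ?_) j
  · exact fun h => absurd h (Nat.succ_ne_zero _)
  rw [← Fin.succ_castSucc, Fin.cons_succ, Fin.cons_succ]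
  refine Fin.cases ?_ (fun k => ?_) i
  · intro hij
    have hl : 0 < s.length := Nat.lt_of_le_of_lt (Nat.zero_le _) l.isLt
    obtain rfl : l = ⟨0, hl⟩ := Fin.ext (by simpa using hij.symm)
    rw [Fin.castSucc_zero, Fin.cons_zero, Fin.cons_succ]
    exact h₀ hl
  · intro hij
    rw [← Fin.succ_castSucc, Fin.cons_succ, Fin.cons_succ]
    exact hs k l (by simpa using hij)

namespace Val

variable {L : Type*} [Lattice L] {d : ℕ} (V : Val L d)

/-- The value of an interval. -/
noncomputable def δ (a b : L) : ℚ[X] := V.v b - V.v a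

/-- Every sub-interval at the bottom has positive multiplicity. -/
def Pure (a t : L) : Prop := ∀ c, a < c → c ≤ t → 0 < alpha d (V.δ a c)

/-- Semistable interval. -/
def SS (a b : L) : Prop := V.Pure a b ∧ ∀ c, a ≤ c → c ≤ b → NN (cross d (V.δ a c) (V.δ a b))

/-- `[a, b]` is maximal destabilising in `[a, t]`. -/
def IsMax (a t b : L) : Prop :=
  a < b ∧ b ≤ t ∧ ∀ c, a < c → c ≤ t →
    NN (cross d (V.δ a c) (V.δ a b)) ∧ (cross d (V.δ a c) (V.δ a b) = 0 → c ≤ b)

theorem δ_self (a : L) : V.δ a a = 0 := sub_self _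

theorem δ_add (a b c : L) : V.δ a b + V.δ b c = V.δ a c := by simp [δ]

theorem δ_modular (a b c : L) : V.δ a (b ⊓ c) + V.δ a (b ⊔ c) = V.δ a b + V.δ a c := by
  simp only [δ]
  linear_combination V.mod b c

theorem α_nonneg {a b : L} (h : a ≤ b) : 0 ≤ alpha d (V.δ a b) := by
  obtain ⟨n, hn⟩ := V.nat h
  rw [show V.δ a b = V.v b - V.v a from rfl, hn]
  positivity

theorem α_mono {a b c : L} (h : b ≤ c) : alpha d (V.δ a b) ≤ alpha d (V.δ a c) := by
  rw [← V.δ_add a b c, alpha_add]
  linarith [V.α_nonneg h]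

theorem pure_mono {a t b : L} (h : V.Pure a t) (hb : b ≤ t) : V.Pure a b := fun c hc hcb => h c hc (hcb.trans hb)

theorem nn_cross_of_α_eq {a b c : L} (ha : a ≤ b) (hc : b ≤ c) (e : alpha d (V.δ a b) = alpha d (V.δ a c)) :
    NN (cross d (V.δ a b) (V.δ a c)) := by
  rw [cross, ← e, ← smul_sub, show V.δ a c - V.δ a b = V.v c - V.v b by simp [δ]]
  exact (V.nn hc).smul (V.α_nonneg ha)

/-- A maximal destabilising element exists. -/
theorem exists_isMax [WellFoundedGT L] {a t : L} (hp : V.Pure a t) (hat : a < t) : ∃ b, V.IsMax a t b := by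
  classical
  let le' : L → L → Prop := fun x y => x ≤ y ∧ NN (cross d (V.δ a x) (V.δ a y))
  let T : Set L := {x | a < x ∧ x ≤ t}
  let S : Set L := {x | x ∈ T ∧ ∀ y ∈ T, le' x y → y = x}
  have htrans : ∀ {x y z}, x ∈ T → y ∈ T → z ∈ T → le' x y → le' y z → le' x z :=
    fun {x y z} hx hy hz h h' => ⟨h.1.trans h'.1, cross_trans d (hp y hy.1 hy.2) (hp x hx.1 hx.2).le
      (hp z hz.1 hz.2).le h.2 h'.2⟩
  have hup : ∀ x ∈ T, ∃ y ∈ S, le' x y := by
    intro x hx
    obtain ⟨y, ⟨hy, hxy⟩, hmax⟩ := wellFounded_gt.has_min {y | y ∈ T ∧ le' x y}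
      ⟨x, hx, le_rfl, by rw [cross_self]; exact nn_zero⟩
    refine ⟨y, ⟨hy, fun z hz hyz => ?_⟩, hxy⟩
    rcases hyz.1.eq_or_lt with h | h
    · exact h.symm
    · exact absurd h (hmax z ⟨hz, htrans hx hy hz hxy hyz⟩)
  have hne : ∃ n : ℕ, ∃ x ∈ S, alpha d (V.δ a x) = n := by
    obtain ⟨y, hy, -⟩ := hup t ⟨hat, le_rfl⟩
    obtain ⟨n, hn⟩ := V.nat hy.1.1.le
    exact ⟨n, y, hy, (show alpha d (V.δ a y) = n from hn)⟩
  obtain ⟨b, hb, hbn⟩ := Nat.find_spec hne
  have hmin : ∀ x ∈ S, alpha d (V.δ a b) ≤ alpha d (V.δ a x) := fun x hx => by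
    obtain ⟨n, hn⟩ := V.nat hx.1.1.le
    rw [hbn, show V.δ a x = V.v x - V.v a from rfl, hn]
    exact_mod_cast Nat.find_min' hne ⟨x, hx, hn⟩
  let f : L → ℚ[X] := fun x => cross d (V.δ a b) (V.δ a x)
  have hf : ∀ x y, f (x ⊓ y) + f (x ⊔ y) = f x + f y := fun x y => by
    simp only [f, ← cross_add_right, δ_modular]
  have hfb : f b = 0 := cross_self d _
  have hneg : ∀ x, x ∈ T → ¬ x ≤ b → PP (-f (b ⊔ x)) := fun x hx hxb => by
    rcases nn_or (f (b ⊔ x)) with h | h
    · refine absurd (hb.2 (b ⊔ x) ⟨hb.1.1.trans_le le_sup_left, sup_le hb.1.2 hx.2⟩ ⟨le_sup_left, h⟩) fun e => ?_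
      exact hxb (sup_eq_left.mp e)
    · exact h
  -- nothing inside `b` has bigger slope
  have hA : ∀ x, a ≤ x → x ≤ b → ¬ PP (f x) := by
    by_contra hc
    push Not at hc
    obtain ⟨h, ⟨hah, hhb, hfh⟩, hmax⟩ := wellFounded_gt.has_min {x | a ≤ x ∧ x ≤ b ∧ PP (f x)}
      (let ⟨x, h1, h2, h3⟩ := hc; ⟨x, h1, h2, h3⟩)
    have hahlt : a < h := hah.lt_of_ne fun e => (pp_iff.mp hfh).2 (by
      subst e; simp only [f, δ_self, cross_zero_right])
    obtain ⟨h', hh', hle⟩ := hup h ⟨hahlt, hhb.trans hb.1.2⟩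
    have hαh := hp h hahlt (hhb.trans hb.1.2)
    have hαb := hp b hb.1.1 hb.1.2
    have hαh' := hp h' hh'.1.1 hh'.1.2
    have hfh' : PP (f h') := cross_trans_lt' d hαh hαb.le hαh' hfh hle.2
    have hnb : ¬ h' ≤ b := by
      intro hb'
      rcases hle.1.eq_or_lt with e | e
      · subst e
        have e1 : alpha d (V.δ a h) = alpha d (V.δ a b) := le_antisymm (V.α_mono hhb) (hmin h hh')
        refine not_nn_of_pp_neg (P := cross d (V.δ a h) (V.δ a b)) ?_ (V.nn_cross_of_α_eq hah hhb e1)
        rwa [← cross_swap]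
      · exact hmax h' ⟨hh'.1.1.le, hb', hfh'⟩ e
    have h1 := hneg h' hh'.1 hnb
    have h2 := hf b h'
    rw [hfb, zero_add] at h2
    have h3 : f (b ⊓ h') - f h' = -f (b ⊔ h') := by linear_combination h2
    have h4 : PP (f (b ⊓ h')) := by
      have := h1.add_nn (pp_iff.mp hfh').1
      rwa [← h3, sub_add_cancel] at this
    have h5 : b ⊓ h' = h := by
      rcases (le_inf hhb hle.1).eq_or_lt with e | e
      · exact e.symm
      · exact absurd e (hmax _ ⟨hah.trans e.le, inf_le_left, h4⟩)
    rw [h5] at h3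
    rw [← h3] at h1
    have h6 : NN (alpha d (V.δ a h') • (f h' - f h)) := by
      have e : alpha d (V.δ a h') • (f h' - f h) = (alpha d (V.δ a h') - alpha d (V.δ a h)) • f h' +
          alpha d (V.δ a b) • cross d (V.δ a h) (V.δ a h') := by
        simp only [f, cross]
        module
      rw [e]
      exact ((pp_iff.mp hfh').1.smul (sub_nonneg.mpr (V.α_mono hle.1))).add (hle.2.smul hαb.le)
    exact not_nn_of_pp_neg (P := f h' - f h) (by rwa [neg_sub]) (NN.of_smul hαh' h6)
  refine ⟨b, hb.1.1, hb.1.2, fun x hax hxt => ?_⟩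
  rw [cross_swap d (V.δ a b) (V.δ a x)]
  change NN (- f x) ∧ (- f x = 0 → x ≤ b)
  by_cases hxb : x ≤ b
  · refine ⟨?_, fun _ => hxb⟩
    rcases nn_or (-f x) with h | h
    · exact h
    · rw [neg_neg] at h
      exact absurd h (hA x hax.le hxb)
  · have h1 := hneg x ⟨hax, hxt⟩ hxb
    have h2 := hf b x
    rw [hfb, zero_add] at h2
    have hA' := hA (b ⊓ x) (le_inf hb.1.1.le hax.le) inf_le_left
    have h3 : NN (-f (b ⊓ x)) := by
      rcases nn_or (-f (b ⊓ x)) with h | h
      · exact h
      · rw [neg_neg] at h; exact absurd h hA'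
    have h4 := h1.add_nn h3
    rw [show -f (b ⊔ x) + -f (b ⊓ x) = -f x by linear_combination -h2] at h4
    exact ⟨(pp_iff.mp h4).1, fun e => absurd e (pp_iff.mp h4).2⟩

theorem ss_of_isMax {a t b : L} (hp : V.Pure a t) (h : V.IsMax a t b) : V.SS a b :=
  ⟨V.pure_mono hp h.2.1, fun c hac hcb => by
    rcases hac.eq_or_lt with rfl | hlt
    · rw [δ_self, cross_zero_left]; exact nn_zero
    · exact (h.2.2 c hlt (hcb.trans h.2.1)).1⟩

theorem pp_of_isMax {a t b c : L} (hp : V.Pure a t) (h : V.IsMax a t b) (hbc : b < c) (hct : c ≤ t) :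
    PP (cross d (V.δ b c) (V.δ a b)) := by
  obtain ⟨h1, h2⟩ := h.2.2 c (h.1.trans hbc) hct
  have e : cross d (V.δ a c) (V.δ a b) = cross d (V.δ b c) (V.δ a b) := by
    rw [← V.δ_add a b c, cross_add_left, cross_self, zero_add]
  rw [← e]
  exact pp_iff.mpr ⟨h1, fun e' => hbc.not_ge (h2 e')⟩

theorem pure_of_isMax {a t b : L} (hp : V.Pure a t) (h : V.IsMax a t b) : V.Pure b t := fun c hbc hct => by
  rcases (V.α_nonneg hbc.le).eq_or_lt with e | e
  · have h1 := V.pp_of_isMax hp h hbc hct
    rw [cross, ← e, zero_smul, zero_sub, ← smul_neg] at h1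
    have := PP.of_smul (hp b h.1 h.2.1) h1
    exact absurd (V.nn hbc.le) (not_nn_of_pp_neg this)
  · exact e

/-- A Harder–Narasimhan chain. -/
structure IsHN (a t : L) (s : LTSeries L) : Prop where
  head : s.head = a
  last : s.last = t
  ss : ∀ i : Fin s.length, V.SS (s i.castSucc) (s i.succ)
  dec : ∀ i j : Fin s.length, i.val + 1 = j.val →
    PP (cross d (V.δ (s j.castSucc) (s j.succ)) (V.δ (s i.castSucc) (s i.succ)))

theorem exists_hn [WellFoundedGT L] : ∀ (a t : L), a ≤ t → V.Pure a t →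
    ∃ s : LTSeries L, V.IsHN a t s ∧ ∀ h : 0 < s.length, V.IsMax a t (s (Fin.succ ⟨0, h⟩)) := by
  intro a
  induction a using WellFoundedGT.induction with
  | _ a ih =>
    intro t hat hp
    rcases hat.eq_or_lt with rfl | hlt
    · exact ⟨RelSeries.singleton _ a, ⟨rfl, rfl, fun i => i.elim0, fun i => i.elim0⟩,
        fun h => absurd h (lt_irrefl 0)⟩
    obtain ⟨b, hb⟩ := V.exists_isMax hp hlt
    obtain ⟨s, hs, hs0⟩ := ih b hb.1 t hb.2.1 (V.pure_of_isMax hp hb)
    refine ⟨consS a s (hs.head ▸ hb.1), ⟨rfl, (consS_last _ _ _).trans hs.last, ?_, ?_⟩, fun h => ?_⟩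
    · refine consS_forall a s _ (fun x y => V.SS x y) ?_ hs.ss
      rw [hs.head]
      exact V.ss_of_isMax hp hb
    · refine consS_forall₂ a s _ (fun x y z w => PP (cross d (V.δ z w) (V.δ x y))) (fun hl => ?_) hs.dec
      rw [hs.head]
      refine V.pp_of_isMax hp hb ?_ ((s.monotone (Fin.le_last _)).trans hs.last.le)
      exact hs.head.symm.trans_lt (s.strictMono (Fin.succ_pos _))
    · change V.IsMax a t (Fin.cons (α := fun _ => L) a s.toFun (Fin.succ 0))
      rw [Fin.cons_succ, show s.toFun 0 = b from hs.head]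
      exact hb

/-- Every step of a Harder–Narasimhan chain is the maximal destabilising one. -/
theorem isMax_of_isHN {a t : L} {s : LTSeries L} (hs : V.IsHN a t s) :
    ∀ i : Fin (s.length + 1), V.Pure (s i) t ∧ ∀ h : i.val < s.length, V.IsMax (s i) t (s ⟨i.val + 1, Nat.succ_lt_succ h⟩) := by
  intro i
  induction i using Fin.reverseInduction with
  | last =>
    refine ⟨fun c hc hct => absurd hct (fun h => hc.not_ge (h.trans hs.last.ge)), fun h => absurd h (by simp)⟩
  | cast i ih =>
    obtain ⟨hpn, hmax⟩ := ih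
    let a' := s i.castSucc
    let b := s i.succ
    have hab : a' < b := s.strictMono Fin.castSucc_lt_succ
    have hbt : b ≤ t := (s.monotone (Fin.le_last _)).trans hs.last.le
    obtain ⟨hpb, hssb⟩ := hs.ss i
    have hαb := hpb b hab le_rfl
    have key : ∀ c, a' < c → c ≤ t → 0 < alpha d (V.δ a' c) ∧
        NN (cross d (V.δ a' c) (V.δ a' b)) ∧ (cross d (V.δ a' c) (V.δ a' b) = 0 → c ≤ b) := by
      intro c hac hct
      by_cases hcb : c ≤ b
      · exact ⟨hpb c hac hcb, hssb c hac.le hcb, fun _ => hcb⟩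
      have hlt : b < b ⊔ c := left_lt_sup.mpr hcb
      have e : V.δ a' c = V.δ a' (b ⊓ c) + V.δ b (b ⊔ c) := by
        simp only [δ]; linear_combination -(V.mod b c)
      have hy := hpn (b ⊔ c) hlt (sup_le hbt hct)
      have hx := V.α_nonneg (le_inf hab.le hac.le)
      refine ⟨by rw [e, alpha_add]; linarith, ?_⟩
      have hi : (i.succ : Fin (s.length + 1)).val < s.length := by
        by_contra hn
        refine hcb (hct.trans (hs.last.ge.trans ?_))
        exact s.monotone (Fin.le_def.mpr (by simpa using not_lt.mp hn))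
      have hm := hmax hi
      let j : Fin s.length := ⟨i.val + 1, by simpa using hi⟩
      have hdec := hs.dec i j rfl
      have hj1 : s j.castSucc = b := congrArg s (Fin.ext (by simp [j]))
      rw [hj1] at hdec
      have hm' : V.IsMax b t (s j.succ) := hm
      have hB₂ := hpn (s j.succ) hm'.1 hm'.2.1
      have h1 : PP (cross d (V.δ b (b ⊔ c)) (V.δ a' b)) :=
        cross_trans_lt d hB₂ hy hαb.le (hm'.2.2 _ hlt (sup_le hbt hct)).1 hdec
      have h2 := h1.add_nn (hssb (b ⊓ c) (le_inf hab.le hac.le) inf_le_left)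
      rw [← cross_add_left, add_comm, ← e] at h2
      exact ⟨(pp_iff.mp h2).1, fun e => absurd e (pp_iff.mp h2).2⟩
    exact ⟨fun c hc hct => (key c hc hct).1, fun h => ⟨hab, hbt, fun c hc hct => (key c hc hct).2⟩⟩

theorem isMax_unique {a t b b' : L} (h : V.IsMax a t b) (h' : V.IsMax a t b') : b = b' := by
  obtain ⟨h1, h2⟩ := h.2.2 b' h'.1 h'.2.1
  obtain ⟨h3, h4⟩ := h'.2.2 b h.1 h.2.1
  rw [cross_swap] at h3
  have e := eq_zero_of_nn_neg h1 h3
  exact le_antisymm (h4 (by rw [cross_swap, e, neg_zero])) (h2 e)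

theorem hn_unique {a t : L} {s s' : LTSeries L} (hs : V.IsHN a t s) (hs' : V.IsHN a t s') : s = s' := by
  have key : ∀ n (h : n < s.length + 1) (h' : n < s'.length + 1), s ⟨n, h⟩ = s' ⟨n, h'⟩ := by
    intro n
    induction n with
    | zero => exact fun _ _ => hs.head.trans hs'.head.symm
    | succ n ih =>
      intro h h'
      have e := ih (by omega) (by omega)
      have h1 := (V.isMax_of_isHN hs ⟨n, by omega⟩).2 (show n < s.length by omega)
      have h2 := (V.isMax_of_isHN hs' ⟨n, by omega⟩).2 (show n < s'.length by omega)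
      rw [e] at h1
      exact V.isMax_unique h1 h2
  have hlen : s.length = s'.length := by
    rcases lt_trichotomy s.length s'.length with h | h | h
    · exfalso
      have h1 : s' ⟨s.length, by omega⟩ < s'.last :=
        s'.strictMono (show (⟨s.length, by omega⟩ : Fin (s'.length + 1)) < Fin.last _ from h)
      rw [← key s.length (by omega) (by omega), hs'.last] at h1
      exact h1.ne hs.last
    · exact h
    · exfalso
      have h1 : s ⟨s'.length, by omega⟩ < s.last :=
        s.strictMono (show (⟨s'.length, by omega⟩ : Fin (s.length + 1)) < Fin.last _ from h)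
      rw [key s'.length (by omega) (by omega), hs.last] at h1
      exact h1.ne hs'.last
  exact RelSeries.ext hlen (funext fun ⟨n, hn⟩ => key n hn (by omega))

/-- The last slope bounds the slope of every quotient from below. -/
theorem hn_min_slope {a t : L} {s : LTSeries L} (hs : V.IsHN a t s) (j : Fin s.length)
    (hj : j.val + 1 = s.length) {K : L} (haK : a ≤ K) (hKt : K ≤ t) :
    NN (cross d (V.δ (s j.castSucc) (s j.succ)) (V.δ K t)) := by
  let B := fun i : Fin s.length => V.δ (s i.castSucc) (s i.succ)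
  have hB : ∀ i, 0 < alpha d (B i) := fun i => (hs.ss i).1 _ (s.strictMono Fin.castSucc_lt_succ) le_rfl
  have hchain : ∀ n (h : n < s.length), NN (cross d (B j) (B ⟨n, h⟩)) := by
    suffices H : ∀ m n (h : n < s.length), n + m = j.val → NN (cross d (B j) (B ⟨n, h⟩)) from
      fun n h => H (j.val - n) n h (by omega)
    intro m
    induction m with
    | zero =>
      intro n h e
      rw [show (⟨n, h⟩ : Fin s.length) = j from Fin.ext (by simpa using e), cross_self]
      exact nn_zero
    | succ m ih =>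
      intro n h e
      refine cross_trans d (hB ⟨n + 1, by omega⟩) (hB j).le (hB _).le (ih (n + 1) (by omega) (by omega)) ?_
      exact (pp_iff.mp (hs.dec ⟨n, h⟩ ⟨n + 1, by omega⟩ rfl)).1
  suffices H : ∀ i : Fin (s.length + 1), NN (cross d (B j) (V.δ K (s i ⊔ K))) by
    have := H (Fin.last _)
    rwa [show s (Fin.last _) = t from hs.last, sup_of_le_left hKt] at this
  intro i
  induction i using Fin.induction with
  | zero =>
    rw [show s 0 = a from hs.head, sup_of_le_right haK, δ_self, cross_zero_right]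
    exact nn_zero
  | succ i ih =>
    let a' := s i.castSucc
    let b := s i.succ
    have hab : a' ≤ b := (s.strictMono Fin.castSucc_lt_succ).le
    let c := b ⊓ (a' ⊔ K)
    have e : V.δ (a' ⊔ K) (b ⊔ K) = V.δ c b := by
      have := V.mod b (a' ⊔ K)
      rw [← sup_assoc, sup_of_le_left hab] at this
      simp only [δ, c]
      linear_combination this
    rw [← V.δ_add K (a' ⊔ K) (b ⊔ K), cross_add_right, e]
    refine ih.add ?_
    have hc1 : a' ≤ c := le_inf hab le_sup_left
    have h1 : NN (cross d (B i) (V.δ c b)) := by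
      have h := (hs.ss i).2 c hc1 inf_le_left
      have e2 : V.δ a' b = V.δ a' c + V.δ c b := (V.δ_add _ _ _).symm
      rw [e2, cross_seesaw, ← e2] at h
      exact h
    exact cross_trans d (hB i) (hB j).le (V.α_nonneg inf_le_left) (hchain i.val i.isLt) h1

/-- Stable interval. -/
def St (a b : L) : Prop :=
  a < b ∧ V.Pure a b ∧ ∀ c, a < c → c < b → PP (cross d (V.δ a c) (V.δ a b))

theorem exists_jh [WellFoundedGT L] (hstrict : ∀ {a b : L}, a < b → PP (V.δ a b)) (t : L) (Q : ℚ[X]) :
    ∀ a, a ≤ t → V.SS a t → cross d (V.δ a t) Q = 0 →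
    ∃ s : LTSeries L, s.head = a ∧ s.last = t ∧
      ∀ i : Fin s.length, V.St (s i.castSucc) (s i.succ) ∧ cross d (V.δ (s i.castSucc) (s i.succ)) Q = 0 := by
  intro a
  induction a using WellFoundedGT.induction with
  | _ a ih =>
    intro hat hss hQ
    rcases hat.eq_or_lt with rfl | hlt
    · exact ⟨RelSeries.singleton _ a, rfl, rfl, fun i => i.elim0⟩
    classical
    have hne : ∃ n : ℕ, ∃ c, a < c ∧ c ≤ t ∧ cross d (V.δ a c) (V.δ a t) = 0 ∧ alpha d (V.δ a c) = n := by
      obtain ⟨n, hn⟩ := V.nat hat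
      exact ⟨n, t, hlt, le_rfl, cross_self d _, (show alpha d (V.δ a t) = n from hn)⟩
    obtain ⟨c, hac, hct, hc0, hcn⟩ := Nat.find_spec hne
    have hαt : 0 < alpha d (V.δ a t) := hss.1 t hlt le_rfl
    have hαc : 0 < alpha d (V.δ a c) := hss.1 c hac hct
    have hcQ : cross d (V.δ a c) Q = 0 := by
      have h := cross_cycle d (V.δ a c) (V.δ a t) Q
      rw [hQ, hc0, smul_zero, smul_zero, add_zero, smul_eq_zero] at h
      exact h.resolve_left hαt.ne'
    have hst : V.St a c := by
      refine ⟨hac, V.pure_mono hss.1 hct, fun e hae hec => ?_⟩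
      have hαe := hss.1 e hae (hec.le.trans hct)
      have h1 := hss.2 e hae.le (hec.le.trans hct)
      have h2 : alpha d (V.δ a t) • cross d (V.δ a e) (V.δ a c) =
          alpha d (V.δ a c) • cross d (V.δ a e) (V.δ a t) := by
        rw [cross_cycle d (V.δ a e) (V.δ a t) (V.δ a c), cross_swap d (V.δ a c) (V.δ a t), hc0, neg_zero,
          smul_zero, add_zero]
      refine PP.of_smul hαt (h2 ▸ (PP.smul (pp_iff.mpr ⟨h1, fun he0 => ?_⟩) hαc))
      obtain ⟨n, hn⟩ := V.nat hae.le
      have hle : (Nat.find hne : ℚ) ≤ n := by exact_mod_cast Nat.find_min' hne ⟨e, hae, hec.le.trans hct, he0, hn⟩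
      have he : alpha d (V.δ a c) = alpha d (V.δ a e) :=
        le_antisymm (hcn.le.trans (hle.trans hn.ge)) (V.α_mono hec.le)
      have e3 := congrArg₂ (· - ·) hc0 he0
      simp only [cross, he] at e3
      have : alpha d (V.δ a t) • (V.δ a e - V.δ a c) = 0 := by
        rw [smul_sub]; linear_combination e3
      rw [smul_eq_zero] at this
      have h4 := this.resolve_left hαt.ne'
      refine (pp_iff.mp (hstrict hec)).2 ?_
      simp only [δ] at h4 ⊢
      linear_combination -h4
    have hrest0 : ∀ e, c ≤ e → cross d (V.δ a e) (V.δ a t) = cross d (V.δ c e) (V.δ a t) := fun e _ => by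
      rw [← V.δ_add a c e, cross_add_left, hc0, zero_add]
    have hct0 : cross d (V.δ c t) (V.δ a t) = 0 := by rw [← hrest0 t hct, cross_self]
    have hpure : V.Pure c t := fun e hce het => by
      rcases (V.α_nonneg hce.le).eq_or_lt with h | h
      · have h1 := hss.2 e (hac.le.trans hce.le) het
        rw [hrest0 e hce.le, cross, ← h, zero_smul, zero_sub, ← smul_neg] at h1
        exact absurd (NN.of_smul hαt h1) (not_nn_of_pp_neg (by rw [neg_neg]; exact hstrict hce))
      · exact h
    have hαct : c < t → 0 < alpha d (V.δ c t) := fun h => hpure t h le_rfl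
    have hss' : V.SS c t := ⟨hpure, fun e hce het => by
      rcases hct.eq_or_lt with rfl | h
      · rw [le_antisymm het hce, δ_self, cross_zero_left]; exact nn_zero
      · refine cross_trans d hαt (V.α_nonneg hce) (hαct h).le ?_ ?_
        · rw [← hrest0 e hce]; exact hss.2 e (hac.le.trans hce) het
        · rw [cross_swap, hct0, neg_zero]; exact nn_zero⟩
    have hQ' : cross d (V.δ c t) Q = 0 := by
      have h := cross_add_left d (V.δ a c) (V.δ c t) Q
      rw [V.δ_add, hQ, hcQ, zero_add] at h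
      exact h.symm
    obtain ⟨s, hh, hl, hs⟩ := ih c hac hct hss' hQ'
    refine ⟨consS a s (hh ▸ hac), rfl, (consS_last _ _ _).trans hl, fun i => ?_⟩
    revert i
    refine consS_forall a s _ (fun x y => V.St x y ∧ cross d (V.δ x y) Q = 0) ?_ hs
    rw [hh]
    exact ⟨hst, hcQ⟩

end Val

end Groth.Agent.StabLattice
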