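import Groth.Prelude.Def_StabCat
import Groth.Agent.HilbPoly.Positive
import Mathlib.Analysis.Polynomial.Basic
import Mathlib.Tactic

/-!
# Eventual signs of rational polynomials, and the cross-multiplied comparison

`NN`, `PP`, `cross`, `exists_nat_alpha`.
-/

open Polynomial Filter

namespace Groth.Agent.StabLattice

/-- Eventually non-negative. -/
def NN (P : ℚ[X]) : Prop := 0 ≤ P.leadingCoeff

/-- Eventually positive. -/
def PP (P : ℚ[X]) : Prop := 0 < P.leadingCoeff

theorem pp_iff {P : ℚ[X]} : PP P ↔ NN P ∧ P ≠ 0 :=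
  ⟨fun h => ⟨le_of_lt h, fun e => by simp [PP, e] at h⟩,
    fun h => lt_of_le_of_ne h.1 (leadingCoeff_ne_zero.mpr h.2).symm⟩

theorem nn_zero : NN 0 := by simp [NN]

theorem eventually_pos {P : ℚ[X]} (h : PP P) : ∃ N : ℕ, ∀ m : ℕ, N ≤ m → 0 < P.eval (m : ℚ) := by
  by_cases hd : 0 < P.degree
  · have ht := (P.tendsto_atTop_of_leadingCoeff_nonneg hd (le_of_lt h)).comp tendsto_natCast_atTop_atTop
    exact eventually_atTop.mp (ht.eventually_gt_atTop 0)
  · rw [not_lt] at hd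
    refine ⟨0, fun m _ => ?_⟩
    rw [eq_C_of_degree_le_zero hd, eval_C]
    rwa [PP, eq_C_of_degree_le_zero hd, leadingCoeff_C] at h

theorem nn_or (P : ℚ[X]) : NN P ∨ PP (-P) := by
  simp only [NN, PP, leadingCoeff_neg, neg_pos]
  exact le_or_gt _ _

theorem polyLE_iff {P Q : ℚ[X]} : StabCat.PolyLE P Q ↔ NN (Q - P) := by
  constructor
  · rintro ⟨N, hN⟩
    rcases nn_or (Q - P) with h | h
    · exact h
    · obtain ⟨M, hM⟩ := eventually_pos h
      have h1 := hM (max M N) (le_max_left _ _)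
      have h2 := hN (max M N) (le_max_right _ _)
      simp only [eval_neg, eval_sub] at h1
      linarith
  · intro h
    by_cases h0 : Q - P = 0
    · exact ⟨0, fun m _ => by rw [sub_eq_zero.mp h0]⟩
    obtain ⟨N, hN⟩ := eventually_pos (pp_iff.mpr ⟨h, h0⟩)
    exact ⟨N, fun m hm => by have := hN m hm; simp only [eval_sub] at this; linarith⟩

theorem polyLT_iff {P Q : ℚ[X]} : StabCat.PolyLT P Q ↔ PP (Q - P) := by
  constructor
  · rintro ⟨N, hN⟩
    refine pp_iff.mpr ⟨polyLE_iff.mp ⟨N, fun m hm => (hN m hm).le⟩, fun e => ?_⟩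
    exact absurd (hN N le_rfl) (by rw [sub_eq_zero.mp e]; exact lt_irrefl _)
  · intro h
    obtain ⟨N, hN⟩ := eventually_pos h
    exact ⟨N, fun m hm => by have := hN m hm; simp only [eval_sub] at this; linarith⟩

theorem NN.add {P Q : ℚ[X]} (hP : NN P) (hQ : NN Q) : NN (P + Q) := by
  obtain ⟨N, hN⟩ := polyLE_iff.mpr (show NN (P - 0) by rwa [sub_zero])
  obtain ⟨M, hM⟩ := polyLE_iff.mpr (show NN (Q - 0) by rwa [sub_zero])
  have : StabCat.PolyLE 0 (P + Q) := ⟨max M N, fun m hm => by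
    have h1 := hN m ((le_max_right _ _).trans hm)
    have h2 := hM m ((le_max_left _ _).trans hm)
    simp only [eval_zero, eval_add] at h1 h2 ⊢
    linarith⟩
  simpa using polyLE_iff.mp this

theorem eq_zero_of_nn_neg {P : ℚ[X]} (h : NN P) (h' : NN (-P)) : P = 0 := by
  rw [← leadingCoeff_eq_zero]
  simp only [NN, leadingCoeff_neg] at h h'
  linarith

theorem PP.add_nn {P Q : ℚ[X]} (hP : PP P) (hQ : NN Q) : PP (P + Q) := by
  refine pp_iff.mpr ⟨(pp_iff.mp hP).1.add hQ, fun e => ?_⟩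
  rw [add_eq_zero_iff_eq_neg] at e
  subst e
  exact (pp_iff.mp hP).2 (by rw [eq_zero_of_nn_neg hQ (pp_iff.mp hP).1, neg_zero])

theorem NN.smul {P : ℚ[X]} (hP : NN P) {c : ℚ} (hc : 0 ≤ c) : NN (c • P) := by
  rw [smul_eq_C_mul, NN, leadingCoeff_mul, leadingCoeff_C]
  exact mul_nonneg hc hP

theorem PP.smul {P : ℚ[X]} (hP : PP P) {c : ℚ} (hc : 0 < c) : PP (c • P) := by
  rw [smul_eq_C_mul, PP, leadingCoeff_mul, leadingCoeff_C]
  exact mul_pos hc hP

theorem NN.of_smul {P : ℚ[X]} {c : ℚ} (hc : 0 < c) (h : NN (c • P)) : NN P := by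
  rw [smul_eq_C_mul, NN, leadingCoeff_mul, leadingCoeff_C] at h
  exact nonneg_of_mul_nonneg_right h hc

theorem PP.of_smul {P : ℚ[X]} {c : ℚ} (hc : 0 < c) (h : PP (c • P)) : PP P := by
  rw [smul_eq_C_mul, PP, leadingCoeff_mul, leadingCoeff_C] at h
  exact (mul_pos_iff_of_pos_left hc).mp h

theorem not_nn_of_pp_neg {P : ℚ[X]} (h : PP (-P)) : ¬ NN P := fun h' =>
  (pp_iff.mp h).2 (by rw [eq_zero_of_nn_neg h' (pp_iff.mp h).1, neg_zero])

variable (d : ℕ)

/-- `α_d(P) • Q - α_d(Q) • P`. -/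
noncomputable def cross (P Q : ℚ[X]) : ℚ[X] := StabCat.alpha d P • Q - StabCat.alpha d Q • P

theorem redLE_iff {P Q : ℚ[X]} : StabCat.RedLE d P Q ↔ NN (cross d P Q) := polyLE_iff

theorem redLT_iff {P Q : ℚ[X]} : StabCat.RedLT d P Q ↔ PP (cross d P Q) := polyLT_iff

theorem redEq_iff {P Q : ℚ[X]} : StabCat.RedEq d P Q ↔ cross d P Q = 0 :=
  ⟨fun h => sub_eq_zero.mpr h.symm, fun h => (sub_eq_zero.mp h).symm⟩

theorem alpha_zero : StabCat.alpha d 0 = 0 := by simp [StabCat.alpha]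

theorem alpha_add (P Q : ℚ[X]) : StabCat.alpha d (P + Q) = StabCat.alpha d P + StabCat.alpha d Q := by
  simp [StabCat.alpha, mul_add]

theorem alpha_sub (P Q : ℚ[X]) : StabCat.alpha d (P - Q) = StabCat.alpha d P - StabCat.alpha d Q := by
  simp [StabCat.alpha, mul_sub]

theorem cross_self (P : ℚ[X]) : cross d P P = 0 := sub_self _

theorem cross_zero_left (Q : ℚ[X]) : cross d 0 Q = 0 := by simp [cross, alpha_zero]

theorem cross_zero_right (P : ℚ[X]) : cross d P 0 = 0 := by simp [cross, alpha_zero]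

theorem cross_swap (P Q : ℚ[X]) : cross d Q P = - cross d P Q := by simp [cross]

theorem cross_add_left (P P' Q : ℚ[X]) : cross d (P + P') Q = cross d P Q + cross d P' Q := by
  simp only [cross, alpha_add, add_smul, smul_add]
  abel

theorem cross_add_right (P Q Q' : ℚ[X]) : cross d P (Q + Q') = cross d P Q + cross d P Q' := by
  simp only [cross, alpha_add, add_smul, smul_add]
  abel

theorem cross_sub_left (P P' Q : ℚ[X]) : cross d (P - P') Q = cross d P Q - cross d P' Q := by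
  simp only [cross, alpha_sub, sub_smul, smul_sub]
  abel

/-- Seesaw. -/
theorem cross_seesaw (A B : ℚ[X]) : cross d A (A + B) = cross d (A + B) B := by
  simp only [cross, alpha_add, add_smul, smul_add]
  abel

theorem cross_cycle (P Q R : ℚ[X]) :
    StabCat.alpha d Q • cross d P R = StabCat.alpha d R • cross d P Q + StabCat.alpha d P • cross d Q R := by
  simp only [cross, smul_sub, smul_smul, mul_comm]
  abel

theorem cross_trans {P Q R : ℚ[X]} (hQ : 0 < StabCat.alpha d Q) (hP : 0 ≤ StabCat.alpha d P)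
    (hR : 0 ≤ StabCat.alpha d R) (h₁ : NN (cross d P Q)) (h₂ : NN (cross d Q R)) : NN (cross d P R) :=
  NN.of_smul hQ (by rw [cross_cycle]; exact (h₁.smul hR).add (h₂.smul hP))

theorem cross_trans_lt {P Q R : ℚ[X]} (hQ : 0 < StabCat.alpha d Q) (hP : 0 < StabCat.alpha d P)
    (hR : 0 ≤ StabCat.alpha d R) (h₁ : NN (cross d P Q)) (h₂ : PP (cross d Q R)) : PP (cross d P R) :=
  PP.of_smul hQ (by rw [cross_cycle, add_comm]; exact (h₂.smul hP).add_nn (h₁.smul hR))

theorem cross_trans_lt' {P Q R : ℚ[X]} (hQ : 0 < StabCat.alpha d Q) (hP : 0 ≤ StabCat.alpha d P)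
    (hR : 0 < StabCat.alpha d R) (h₁ : PP (cross d P Q)) (h₂ : NN (cross d Q R)) : PP (cross d P R) :=
  PP.of_smul hQ (by rw [cross_cycle]; exact (h₁.smul hR).add_nn (h₂.smul hP))

theorem exists_int_alpha : ∀ (d : ℕ) {P : ℚ[X]}, P.natDegree ≤ d → (∀ m : ℕ, ∃ z : ℤ, P.eval (m : ℚ) = z) →
    ∃ z : ℤ, StabCat.alpha d P = z
  | 0, P, hd, h => by
    obtain ⟨z, hz⟩ := h 0
    refine ⟨z, ?_⟩
    rw [← hz, Nat.cast_zero, ← coeff_zero_eq_eval_zero]
    simp [StabCat.alpha]
  | d + 1, P, hd, h => by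
    let Q := P.comp (X + C 1) - P
    have hQ : Q.natDegree ≤ d := by
      refine natDegree_le_iff_coeff_eq_zero.mpr fun j hj => ?_
      rcases (Nat.succ_le_of_lt hj).eq_or_lt with rfl | hj'
      · simp only [Q, coeff_sub]
        rw [HilbPoly.coeff_comp_X_add_C (e := d + 1) (hd.trans (Nat.le_succ _)),
          coeff_eq_zero_of_natDegree_lt (lt_of_le_of_lt hd (Nat.lt_succ_self _))]
        simp
      · simp only [Q, coeff_sub]
        rw [coeff_eq_zero_of_natDegree_lt (lt_of_le_of_lt (by rw [natDegree_comp, natDegree_X_add_C, mul_one]; exact hd) hj'),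
          coeff_eq_zero_of_natDegree_lt (lt_of_le_of_lt hd hj'), sub_self]
    obtain ⟨z, hz⟩ := exists_int_alpha d hQ fun m => by
      obtain ⟨a, ha⟩ := h (m + 1)
      obtain ⟨b, hb⟩ := h m
      refine ⟨a - b, ?_⟩
      simp only [Q, eval_sub, eval_comp, eval_add, eval_X, eval_C]
      rw [hb]
      push_cast at ha
      rw [ha]
      push_cast
      ring
    refine ⟨z, ?_⟩
    rw [← hz]
    simp only [StabCat.alpha, Q, coeff_sub, HilbPoly.coeff_comp_X_add_C hd, Nat.factorial_succ]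
    push_cast
    ring

end Groth.Agent.StabLattice
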